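import Groth.Agent.ResProp.EF.Arch

/-!
# The family of coactions of a cover datum from level `⟨0⟩` (G1, seam RHO)

`Y : AffOver A`, `O` a Hopf algebra over `k`.  A coaction `ρ₀` of `O` on `D⟨0⟩` which is `A⟨0⟩`-linear and commutes with the
arrows (`RhoOne`: one condition on `⟨1⟩`) extends uniquely to a family of coactions `ρ a` on all `D⟨a⟩`, natural in `a` and
`A⟨a⟩`-linear (`exists_rho`): the fields `ρ`, `ρ_nat`, `ρ_lin` of `Arch.CoverDatum`.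
-/

set_option autoImplicit false
set_option linter.dupNamespace false

open CategoryTheory CategoryTheory.Limits Opposite TensorProduct

noncomputable section

namespace Groth.Agent.ResProp.EF.K610

open K784.BC K784.PM K741.RP EF56 Arch

universe u

section PO

variable {R R' A B : Type u} [CommRing R] [CommRing R'] [CommRing A] [CommRing B] {ρ : R →+* R'} {α : R →+* A}
  {β : R' →+* B} {φ : A →+* B} {T : Type u} [CommRing T]

theorem po_desc (h : IsPO ρ α β φ) (f : R' →+* T) (g : A →+* T) (w : f.comp ρ = g.comp α) :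
    ∃ l : B →+* T, l.comp β = f ∧ l.comp φ = g := by
  have w' : CommRingCat.ofHom ρ ≫ CommRingCat.ofHom f = CommRingCat.ofHom α ≫ CommRingCat.ofHom g := by
    rw [← CommRingCat.ofHom_comp, ← CommRingCat.ofHom_comp, w]
  exact ⟨(IsPushout.desc h _ _ w').hom, congrArg CommRingCat.Hom.hom (IsPushout.inl_desc h _ _ w'),
    congrArg CommRingCat.Hom.hom (IsPushout.inr_desc h _ _ w')⟩

theorem po_ext (h : IsPO ρ α β φ) {l l' : B →+* T} (h1 : l.comp β = l'.comp β) (h2 : l.comp φ = l'.comp φ) :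
    l = l' := by
  have e : CommRingCat.ofHom l = CommRingCat.ofHom l' := by
    apply IsPushout.hom_ext h
    · rw [← CommRingCat.ofHom_comp, ← CommRingCat.ofHom_comp, h1]
    · rw [← CommRingCat.ofHom_comp, ← CommRingCat.ofHom_comp, h2]
  exact congrArg CommRingCat.Hom.hom e

end PO

variable {k : Type u} [CommRing k] {A : NFᵒᵖ ⥤ CommRingCat.{u}} [GRF k A] (Y : AffOver A)
  (O : Type u) [CommRing O] [HopfAlgebra k O]

/-- `rg D φ ⊗ 1` -/
abbrev rkO {a b : NF} (φ : a ⟶ b) : Y.D.obj (op b) ⊗[k] O →ₐ[k] Y.D.obj (op a) ⊗[k] O :=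
  Algebra.TensorProduct.map (Y.rk (k := k) φ) (AlgHom.id k O)

theorem rk_apply {a b : NF} (φ : a ⟶ b) (z : Y.D.obj (op b)) : Y.rk (k := k) φ z = rg Y.D φ z := rfl

theorem rk_comp {a b c : NF} (φ : a ⟶ b) (ψ : b ⟶ c) :
    Y.rk (k := k) (φ ≫ ψ) = (Y.rk (k := k) φ).comp (Y.rk (k := k) ψ) := by
  ext z
  change rg Y.D (φ ≫ ψ) z = rg Y.D φ (rg Y.D ψ z)
  rw [← rg_comp_apply]

theorem rkO_comp {a b c : NF} (φ : a ⟶ b) (ψ : b ⟶ c) :
    rkO (k := k) Y O (φ ≫ ψ) = (rkO (k := k) Y O φ).comp (rkO (k := k) Y O ψ) := by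
  unfold rkO
  rw [rk_comp, ← Algebra.TensorProduct.map_comp, AlgHom.id_comp]

theorem rkO_eq {a b : NF} (φ : a ⟶ b) (z : Y.D.obj (op b) ⊗[k] O) :
    rkO (k := k) Y O φ z = (Y.rk (k := k) φ).toLinearMap.rTensor O z := rfl

/-- naturality of the structure map -/
theorem j_nat {a b : NF} (φ : a ⟶ b) (r : A.obj (op b)) :
    rg Y.D φ (algebraMap (A.obj (op b)) (Y.D.obj (op b)) r) =
      algebraMap (A.obj (op a)) (Y.D.obj (op a)) (rg A φ r) := by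
  have := congrArg (fun f => f.hom r) (Y.j.naturality φ.op)
  exact this.symm

/-- ring maps out of `D⟨a⟩` are determined by `A⟨a⟩` and `D⟨b⟩`, `φ : a ⟶ b` -/
theorem hom_ext {a b : NF} (φ : a ⟶ b) {T : Type u} [CommRing T] {l l' : Y.D.obj (op a) →+* T}
    (h1 : ∀ r : A.obj (op a), l (algebraMap (A.obj (op a)) (Y.D.obj (op a)) r) = l' (algebraMap _ _ r))
    (h2 : ∀ z : Y.D.obj (op b), l (rg Y.D φ z) = l' (rg Y.D φ z)) : l = l' :=
  po_ext (Y.cart φ) (RingHom.ext h1) (RingHom.ext h2)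

variable {O}

/-- The condition on `⟨1⟩`: the base change of `ρ₀` along the first vertex is also its base change along the second. -/
structure RhoOne (ρ₀ : K83.CoAlg k O (Y.D.obj (op ⟨0⟩))) (ρ1 : Y.D.obj (op ⟨1⟩) →+* Y.D.obj (op ⟨1⟩) ⊗[k] O) : Prop where
  lin : ∀ r : A.obj (op ⟨1⟩), ρ1 (algebraMap (A.obj (op ⟨1⟩)) (Y.D.obj (op ⟨1⟩)) r) = algebraMap _ _ r ⊗ₜ 1
  pr : ∀ z, ρ1 (rg Y.D (pr ⟨0⟩) z) = rkO (k := k) Y O (pr ⟨0⟩) (ρ₀.ρ z)
  lst : ∀ z, ρ1 (rg Y.D (lst ⟨0⟩) z) = rkO (k := k) Y O (lst ⟨0⟩) (ρ₀.ρ z)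

section

variable {Y} (ρ₀ : K83.CoAlg k O (Y.D.obj (op ⟨0⟩)))
  (hlin : ∀ r : A.obj (op ⟨0⟩), ρ₀.ρ (algebraMap (A.obj (op ⟨0⟩)) (Y.D.obj (op ⟨0⟩)) r) = algebraMap _ _ r ⊗ₜ 1)

include hlin in
/-- base change of `ρ₀` along a vertex -/
theorem exists_ext {a : NF} (v : a ⟶ ⟨0⟩) : ∃ l : Y.D.obj (op a) →+* Y.D.obj (op a) ⊗[k] O,
    (∀ r : A.obj (op a), l (algebraMap (A.obj (op a)) (Y.D.obj (op a)) r) = algebraMap _ _ r ⊗ₜ 1) ∧
    ∀ z, l (rg Y.D v z) = rkO (k := k) Y O v (ρ₀.ρ z) := by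
  obtain ⟨l, h1, h2⟩ := po_desc (Y.cart v)
    ((Algebra.TensorProduct.includeLeft : Y.D.obj (op a) →ₐ[k] Y.D.obj (op a) ⊗[k] O).toRingHom.comp
      (Y.j.app (op a)).hom)
    ((rkO (k := k) Y O v).toRingHom.comp ρ₀.ρ.toRingHom) (by
      ext r
      change (Y.j.app (op a)).hom (rg A v r) ⊗ₜ[k] (1 : O) =
        rkO (k := k) Y O v (ρ₀.ρ (algebraMap (A.obj (op ⟨0⟩)) (Y.D.obj (op ⟨0⟩)) r))
      rw [hlin]
      change _ = rg Y.D v (algebraMap (A.obj (op ⟨0⟩)) (Y.D.obj (op ⟨0⟩)) r) ⊗ₜ[k] (1 : O)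
      rw [j_nat]
      rfl)
  exact ⟨l, fun r => congrArg (fun f => f r) h1, fun z => congrArg (fun f => f z) h2⟩

/-- base change of `ρ₀` along the vertex `0` -/
def ext (a : NF) : Y.D.obj (op a) →+* Y.D.obj (op a) ⊗[k] O := (exists_ext ρ₀ hlin (pt a 0)).choose

theorem ext_lin (a : NF) (r : A.obj (op a)) :
    ext ρ₀ hlin a (algebraMap (A.obj (op a)) (Y.D.obj (op a)) r) = algebraMap _ _ r ⊗ₜ 1 :=
  (exists_ext ρ₀ hlin (pt a 0)).choose_spec.1 r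

theorem ext_pt (a : NF) (z : Y.D.obj (op ⟨0⟩)) :
    ext ρ₀ hlin a (rg Y.D (pt a 0) z) = rkO (k := k) Y O (pt a 0) (ρ₀.ρ z) :=
  (exists_ext ρ₀ hlin (pt a 0)).choose_spec.2 z

/-- naturality for arrows which preserve the vertex `0` -/
theorem ext_nat_zero {a b : NF} (φ : a ⟶ b) (h : φ ≫ pt b 0 = pt a 0) (z : Y.D.obj (op b)) :
    ext ρ₀ hlin a (rg Y.D φ z) = rkO (k := k) Y O φ (ext ρ₀ hlin b z) := by
  have key : (ext ρ₀ hlin a).comp (rg Y.D φ) = (rkO (k := k) Y O φ).toRingHom.comp (ext ρ₀ hlin b) := by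
    apply hom_ext Y (pt b 0)
    · intro r
      change ext ρ₀ hlin a (rg Y.D φ (algebraMap _ _ r)) = rkO (k := k) Y O φ (ext ρ₀ hlin b (algebraMap _ _ r))
      rw [j_nat, ext_lin, ext_lin]
      change _ = rg Y.D φ (algebraMap (A.obj (op b)) (Y.D.obj (op b)) r) ⊗ₜ[k] (1 : O)
      rw [j_nat]
    · intro z
      change ext ρ₀ hlin a (rg Y.D φ (rg Y.D (pt b 0) z)) = rkO (k := k) Y O φ (ext ρ₀ hlin b (rg Y.D (pt b 0) z))
      rw [ext_pt, ← rg_comp_apply, h, ext_pt, ← h, rkO_comp]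
      rfl
  exact congrArg (fun f => f z) key

/-- the edge from the vertex `0` to the vertex `i` -/
def edg (a : NF) (i : Fin (a.n + 1)) : a ⟶ ⟨1⟩ := (![0, i] : Fin 2 → Fin (a.n + 1))

variable {ρ₀} {ρ1 : Y.D.obj (op ⟨1⟩) →+* Y.D.obj (op ⟨1⟩) ⊗[k] O} (H : RhoOne Y ρ₀ ρ1)

include H in
theorem ext_one : ext ρ₀ hlin ⟨1⟩ = ρ1 := by
  apply hom_ext Y (pt ⟨1⟩ 0)
  · intro r
    rw [ext_lin, H.lin]
  · intro z
    rw [ext_pt]
    have e : pt ⟨1⟩ 0 = pr ⟨0⟩ := by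
      funext x; fin_cases x; rfl
    rw [e, H.pr]

include H in
theorem ext_vertex (a : NF) (i : Fin (a.n + 1)) (z : Y.D.obj (op ⟨0⟩)) :
    ext ρ₀ hlin a (rg Y.D (pt a i) z) = rkO (k := k) Y O (pt a i) (ρ₀.ρ z) := by
  have e0 : edg a i ≫ pt ⟨1⟩ 0 = pt a 0 := by
    funext x; rfl
  have e1 : edg a i ≫ lst ⟨0⟩ = pt a i := by
    funext x; rfl
  rw [← e1, rg_comp_apply, ext_nat_zero ρ₀ hlin (edg a i) e0, ext_one hlin H, H.lst, rkO_comp]
  rfl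

include H in
theorem ext_nat {a b : NF} (φ : a ⟶ b) (z : Y.D.obj (op b)) :
    ext ρ₀ hlin a (rg Y.D φ z) = rkO (k := k) Y O φ (ext ρ₀ hlin b z) := by
  have key : (ext ρ₀ hlin a).comp (rg Y.D φ) = (rkO (k := k) Y O φ).toRingHom.comp (ext ρ₀ hlin b) := by
    apply hom_ext Y (pt b 0)
    · intro r
      change ext ρ₀ hlin a (rg Y.D φ (algebraMap _ _ r)) = rkO (k := k) Y O φ (ext ρ₀ hlin b (algebraMap _ _ r))
      rw [j_nat, ext_lin, ext_lin]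
      change _ = rg Y.D φ (algebraMap (A.obj (op b)) (Y.D.obj (op b)) r) ⊗ₜ[k] (1 : O)
      rw [j_nat]
    · intro z
      change ext ρ₀ hlin a (rg Y.D φ (rg Y.D (pt b 0) z)) = rkO (k := k) Y O φ (ext ρ₀ hlin b (rg Y.D (pt b 0) z))
      have h : φ ≫ pt b 0 = pt a ((show Fin (b.n + 1) → Fin (a.n + 1) from φ) 0) := by
        funext x; rfl
      rw [ext_pt, ← rg_comp_apply, h, ext_vertex hlin H, ← h, rkO_comp]
      rfl
  exact congrArg (fun f => f z) key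

variable (ρ₀)

/-- the underlying algebra map of the coaction on `D⟨a⟩` -/
def extA (a : NF) : Y.D.obj (op a) →ₐ[k] Y.D.obj (op a) ⊗[k] O :=
  { ext ρ₀ hlin a with
    commutes' := fun r => ext_lin ρ₀ hlin a (algebraMap k (A.obj (op a)) r) }

theorem extA_apply (a : NF) (z : Y.D.obj (op a)) : extA ρ₀ hlin a z = ext ρ₀ hlin a z := rfl

theorem alg_ext {a b : NF} (φ : a ⟶ b) {T : Type u} [CommRing T] [Algebra k T] {l l' : Y.D.obj (op a) →ₐ[k] T}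
    (h1 : ∀ r : A.obj (op a), l (algebraMap (A.obj (op a)) (Y.D.obj (op a)) r) = l' (algebraMap _ _ r))
    (h2 : ∀ z : Y.D.obj (op b), l (rg Y.D φ z) = l' (rg Y.D φ z)) : l = l' := by
  have := hom_ext Y φ (l := l.toRingHom) (l' := l'.toRingHom) h1 h2
  exact AlgHom.coe_ringHom_injective this

section aux

variable {D₀ D₁ : Type u} [CommRing D₀] [CommRing D₁] [Algebra k D₀] [Algebra k D₁]

theorem aux_assoc (f : D₀ →ₐ[k] D₁) (w : (D₀ ⊗[k] O) ⊗[k] O) :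
    TensorProduct.assoc k D₁ O O
      (Algebra.TensorProduct.map (Algebra.TensorProduct.map f (AlgHom.id k O)) (AlgHom.id k O) w) =
    f.toLinearMap.rTensor (O ⊗[k] O) (TensorProduct.assoc k D₀ O O w) := by
  induction w using TensorProduct.induction_on with
  | zero => simp
  | add x y hx hy => simp only [map_add, hx, hy]
  | tmul x y =>
    induction x using TensorProduct.induction_on with
    | zero => simp
    | add x x' hx hx' => simp only [TensorProduct.add_tmul, map_add, hx, hx']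
    | tmul x x' => simp

theorem aux_comul (f : D₀ →ₐ[k] D₁) (w : D₀ ⊗[k] O) :
    (Coalgebra.comul (R := k) (A := O)).lTensor D₁ (Algebra.TensorProduct.map f (AlgHom.id k O) w) =
      f.toLinearMap.rTensor (O ⊗[k] O) ((Coalgebra.comul (R := k) (A := O)).lTensor D₀ w) := by
  induction w using TensorProduct.induction_on with
  | zero => simp
  | add x y hx hy => simp only [map_add, hx, hy]
  | tmul x y => simp

theorem aux_counit (f : D₀ →ₐ[k] D₁) (w : D₀ ⊗[k] O) :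
    (Coalgebra.counit (R := k) (A := O)).lTensor D₁ (Algebra.TensorProduct.map f (AlgHom.id k O) w) =
      f.toLinearMap.rTensor k ((Coalgebra.counit (R := k) (A := O)).lTensor D₀ w) := by
  induction w using TensorProduct.induction_on with
  | zero => simp
  | add x y hx hy => simp only [map_add, hx, hy]
  | tmul x y => simp

theorem aux_rho (f : D₀ →ₐ[k] D₁) (r₀ : D₀ →ₐ[k] D₀ ⊗[k] O) (r₁ : D₁ →ₐ[k] D₁ ⊗[k] O)
    (h : ∀ z, r₁ (f z) = Algebra.TensorProduct.map f (AlgHom.id k O) (r₀ z)) (w : D₀ ⊗[k] O) :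
    Algebra.TensorProduct.map r₁ (AlgHom.id k O) (Algebra.TensorProduct.map f (AlgHom.id k O) w) =
      Algebra.TensorProduct.map (Algebra.TensorProduct.map f (AlgHom.id k O)) (AlgHom.id k O)
        (Algebra.TensorProduct.map r₀ (AlgHom.id k O) w) := by
  induction w using TensorProduct.induction_on with
  | zero => simp
  | add x y hx hy => simp only [map_add, hx, hy]
  | tmul x y => simp [h]

end aux

/-- the coaction on `D⟨a⟩` -/
def extCo (a : NF) : K83.CoAlg k O (Y.D.obj (op a)) where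
  ρ := extA ρ₀ hlin a
  coassoc := by
    have key : ((Algebra.TensorProduct.assoc k k k (Y.D.obj (op a)) O O).toAlgHom.comp
        (Algebra.TensorProduct.map (extA ρ₀ hlin a) (AlgHom.id k O))).comp (extA ρ₀ hlin a) =
        (Algebra.TensorProduct.map (AlgHom.id k (Y.D.obj (op a))) (Bialgebra.comulAlgHom k O)).comp
          (extA ρ₀ hlin a) := by
      apply alg_ext (pt a 0)
      · intro r
        change (Algebra.TensorProduct.assoc k k k (Y.D.obj (op a)) O O)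
            (Algebra.TensorProduct.map (extA ρ₀ hlin a) (AlgHom.id k O) (ext ρ₀ hlin a (algebraMap _ _ r))) =
          Algebra.TensorProduct.map (AlgHom.id k (Y.D.obj (op a))) (Bialgebra.comulAlgHom k O)
            (ext ρ₀ hlin a (algebraMap _ _ r))
        rw [ext_lin, Algebra.TensorProduct.map_tmul, Algebra.TensorProduct.map_tmul, extA_apply, ext_lin]
        simp [Algebra.TensorProduct.one_def]
      · intro z
        change TensorProduct.assoc k (Y.D.obj (op a)) O O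
            (Algebra.TensorProduct.map (extA ρ₀ hlin a) (AlgHom.id k O) (ext ρ₀ hlin a (rg Y.D (pt a 0) z))) =
          (Coalgebra.comul (R := k) (A := O)).lTensor _ (ext ρ₀ hlin a (rg Y.D (pt a 0) z))
        rw [ext_pt, aux_rho (Y.rk (k := k) (pt a 0)) ρ₀.ρ (extA ρ₀ hlin a) (ext_pt ρ₀ hlin a), aux_assoc, aux_comul]
        congr 1
        exact ρ₀.coassoc z
    intro x
    exact congrArg (fun f => f x) key
  counit := by
    have key : (Algebra.TensorProduct.map (AlgHom.id k (Y.D.obj (op a))) (Bialgebra.counitAlgHom k O)).comp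
          (extA ρ₀ hlin a) = (Algebra.TensorProduct.includeLeft : Y.D.obj (op a) →ₐ[k] Y.D.obj (op a) ⊗[k] k) := by
      apply alg_ext (pt a 0)
      · intro r
        change Algebra.TensorProduct.map (AlgHom.id k (Y.D.obj (op a))) (Bialgebra.counitAlgHom k O)
            (ext ρ₀ hlin a (algebraMap _ _ r)) = _
        rw [ext_lin]
        simp
      · intro z
        change (Coalgebra.counit (R := k) (A := O)).lTensor _ (ext ρ₀ hlin a (rg Y.D (pt a 0) z)) =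
          (rg Y.D (pt a 0) z) ⊗ₜ[k] (1 : k)
        rw [ext_pt, aux_counit]
        erw [ρ₀.counit z]
        rfl
    intro x
    exact congrArg (fun f => f x) key

theorem extCo_apply (a : NF) (z : Y.D.obj (op a)) : (extCo ρ₀ hlin a).ρ z = ext ρ₀ hlin a z := rfl

omit [GRF k A] in
theorem CoAlg_ext {D : Type u} [CommRing D] [Algebra k D] {c c' : K83.CoAlg k O D} (h : ∀ z, c.ρ z = c'.ρ z) :
    c = c' := by
  obtain ⟨r, h1, h2⟩ := c
  obtain ⟨r', h1', h2'⟩ := c'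
  have e : r = r' := AlgHom.ext h
  subst e
  rfl

theorem extCo_zero : extCo ρ₀ hlin ⟨0⟩ = ρ₀ := by
  have e : pt ⟨0⟩ 0 = 𝟙 (⟨0⟩ : NF) := by
    funext x; exact Subsingleton.elim (α := Fin 1) _ _
  have e1 : ∀ z : Y.D.obj (op ⟨0⟩), rg Y.D (pt ⟨0⟩ 0) z = z := by
    intro z
    rw [e]
    change (Y.D.map (𝟙 (op ⟨0⟩))).hom z = z
    rw [Y.D.map_id]
    rfl
  apply CoAlg_ext
  intro z
  have h := ext_pt ρ₀ hlin ⟨0⟩ z
  rw [e1] at h
  rw [extCo_apply, h]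
  have e2 : rkO (k := k) Y O (pt ⟨0⟩ 0) = AlgHom.id k _ := by
    have : Y.rk (k := k) (pt ⟨0⟩ 0) = AlgHom.id k _ := AlgHom.ext e1
    unfold rkO
    rw [this]
    exact Algebra.TensorProduct.map_id
  rw [e2]
  rfl

include hlin H in
/-- **Seam RHO**, ring form. -/
theorem exists_rho : ∃ ρ : ∀ a : NF, K83.CoAlg k O (Y.D.obj (op a)), ρ ⟨0⟩ = ρ₀ ∧
    (∀ {a b : NF} (φ : a ⟶ b) (z : Y.D.obj (op b)),
      (ρ a).ρ (rg Y.D φ z) = (Y.rk (k := k) φ).toLinearMap.rTensor O ((ρ b).ρ z)) ∧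
    ∀ (a : NF) (r : A.obj (op a)),
      (ρ a).ρ (algebraMap (A.obj (op a)) (Y.D.obj (op a)) r) = algebraMap (A.obj (op a)) (Y.D.obj (op a)) r ⊗ₜ 1 :=
  ⟨fun a => extCo ρ₀ hlin a, extCo_zero ρ₀ hlin, fun φ z => ext_nat hlin H φ z, fun a r => ext_lin ρ₀ hlin a r⟩

/-- the point `y · h` of `D⟨0⟩`, for a point `y` of `D⟨0⟩` and a point `h` of the group -/
def actPt (ρ₀ : K83.CoAlg k O (Y.D.obj (op ⟨0⟩))) {T : Type u} [CommRing T] [Algebra k T]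
    (y : Y.D.obj (op ⟨0⟩) →ₐ[k] T) (h : O →ₐ[k] T) : Y.D.obj (op ⟨0⟩) →ₐ[k] T :=
  (Algebra.TensorProduct.lift y h fun _ _ => Commute.all _ _).comp ρ₀.ρ

omit H in
theorem rhoOne_of_points
    (hpts : ∀ (T : Type u) [CommRing T] [Algebra k T] (f f' : Y.D.obj (op ⟨1⟩) →ₐ[k] T) (h : O →ₐ[k] T),
      (∀ r : A.obj (op ⟨1⟩), f' (algebraMap (A.obj (op ⟨1⟩)) (Y.D.obj (op ⟨1⟩)) r) = f (algebraMap _ _ r)) →
      f'.comp (Y.rk (k := k) (pr ⟨0⟩)) = actPt ρ₀ (f.comp (Y.rk (k := k) (pr ⟨0⟩))) h →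
      f'.comp (Y.rk (k := k) (lst ⟨0⟩)) = actPt ρ₀ (f.comp (Y.rk (k := k) (lst ⟨0⟩))) h) :
    RhoOne Y ρ₀ (ext ρ₀ hlin ⟨1⟩) := by
  have e : pt ⟨1⟩ 0 = pr ⟨0⟩ := by
    funext x; fin_cases x; rfl
  have hl : ∀ (φ : (⟨1⟩ : NF) ⟶ ⟨0⟩), actPt ρ₀ ((Algebra.TensorProduct.includeLeft :
      Y.D.obj (op ⟨1⟩) →ₐ[k] Y.D.obj (op ⟨1⟩) ⊗[k] O).comp (Y.rk (k := k) φ)) Algebra.TensorProduct.includeRight =
      (rkO (k := k) Y O φ).comp ρ₀.ρ := by
    intro φ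
    unfold actPt
    congr 1
    apply Algebra.TensorProduct.ext'
    intro a b
    simp [rkO]
  have hp : ∀ z, ext ρ₀ hlin ⟨1⟩ (rg Y.D (pr ⟨0⟩) z) = rkO (k := k) Y O (pr ⟨0⟩) (ρ₀.ρ z) := by
    intro z
    have := ext_pt ρ₀ hlin ⟨1⟩ z
    rwa [e] at this
  refine ⟨ext_lin ρ₀ hlin ⟨1⟩, hp, ?_⟩
  have h1 := hpts _ (Algebra.TensorProduct.includeLeft : Y.D.obj (op ⟨1⟩) →ₐ[k] Y.D.obj (op ⟨1⟩) ⊗[k] O)
    (extA ρ₀ hlin ⟨1⟩) Algebra.TensorProduct.includeRight (fun r => ext_lin ρ₀ hlin ⟨1⟩ r) (by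
      rw [hl]
      exact AlgHom.ext hp)
  rw [hl] at h1
  intro z
  exact congrArg (fun f => f z) h1

include hlin in
/-- **Seam RHO**, points form: an arrow and a point of the group act on the points of `D⟨0⟩`, and commute. -/
theorem exists_rho_of_points
    (hpts : ∀ (T : Type u) [CommRing T] [Algebra k T] (f f' : Y.D.obj (op ⟨1⟩) →ₐ[k] T) (h : O →ₐ[k] T),
      (∀ r : A.obj (op ⟨1⟩), f' (algebraMap (A.obj (op ⟨1⟩)) (Y.D.obj (op ⟨1⟩)) r) = f (algebraMap _ _ r)) →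
      f'.comp (Y.rk (k := k) (pr ⟨0⟩)) = actPt ρ₀ (f.comp (Y.rk (k := k) (pr ⟨0⟩))) h →
      f'.comp (Y.rk (k := k) (lst ⟨0⟩)) = actPt ρ₀ (f.comp (Y.rk (k := k) (lst ⟨0⟩))) h) :
    ∃ ρ : ∀ a : NF, K83.CoAlg k O (Y.D.obj (op a)), ρ ⟨0⟩ = ρ₀ ∧
      (∀ {a b : NF} (φ : a ⟶ b) (z : Y.D.obj (op b)),
        (ρ a).ρ (rg Y.D φ z) = (Y.rk (k := k) φ).toLinearMap.rTensor O ((ρ b).ρ z)) ∧
      ∀ (a : NF) (r : A.obj (op a)),
        (ρ a).ρ (algebraMap (A.obj (op a)) (Y.D.obj (op a)) r) = algebraMap (A.obj (op a)) (Y.D.obj (op a)) r ⊗ₜ 1 :=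
  exists_rho ρ₀ hlin (rhoOne_of_points ρ₀ hlin hpts)

include hlin in
/-- **Seam RHO**, Galois form: `D⟨1⟩ = D⟨0⟩ ⊗_C D⟨0⟩`; `C` is stable and the structure map of the arrows is invariant. -/
theorem exists_rho_of_gal {C : Type u} [CommRing C] (G : K477.Gal Y.D C)
    (hC : ∀ c : C, rkO (k := k) Y O (pr ⟨0⟩) (ρ₀.ρ (G.φ c)) = rkO (k := k) Y O (lst ⟨0⟩) (ρ₀.ρ (G.φ c)))
    (hA : ∀ ρ1 : Y.D.obj (op ⟨1⟩) →+* Y.D.obj (op ⟨1⟩) ⊗[k] O,
      (∀ z, ρ1 (rg Y.D (pr ⟨0⟩) z) = rkO (k := k) Y O (pr ⟨0⟩) (ρ₀.ρ z)) →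
      (∀ z, ρ1 (rg Y.D (lst ⟨0⟩) z) = rkO (k := k) Y O (lst ⟨0⟩) (ρ₀.ρ z)) →
      ∀ r : A.obj (op ⟨1⟩), ρ1 (algebraMap (A.obj (op ⟨1⟩)) (Y.D.obj (op ⟨1⟩)) r) = algebraMap _ _ r ⊗ₜ 1) :
    ∃ ρ : ∀ a : NF, K83.CoAlg k O (Y.D.obj (op a)), ρ ⟨0⟩ = ρ₀ ∧
      (∀ {a b : NF} (φ : a ⟶ b) (z : Y.D.obj (op b)),
        (ρ a).ρ (rg Y.D φ z) = (Y.rk (k := k) φ).toLinearMap.rTensor O ((ρ b).ρ z)) ∧
      ∀ (a : NF) (r : A.obj (op a)),
        (ρ a).ρ (algebraMap (A.obj (op a)) (Y.D.obj (op a)) r) = algebraMap (A.obj (op a)) (Y.D.obj (op a)) r ⊗ₜ 1 := by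
  obtain ⟨ρ1, h1, h2⟩ := po_desc G.po ((rkO (k := k) Y O (pr ⟨0⟩)).toRingHom.comp ρ₀.ρ.toRingHom)
    ((rkO (k := k) Y O (lst ⟨0⟩)).toRingHom.comp ρ₀.ρ.toRingHom) (RingHom.ext hC)
  have h1' : ∀ z, ρ1 (rg Y.D (pr ⟨0⟩) z) = rkO (k := k) Y O (pr ⟨0⟩) (ρ₀.ρ z) := fun z => congrArg (fun f => f z) h1
  have h2' : ∀ z, ρ1 (rg Y.D (lst ⟨0⟩) z) = rkO (k := k) Y O (lst ⟨0⟩) (ρ₀.ρ z) := fun z => congrArg (fun f => f z) h2
  exact exists_rho ρ₀ hlin ⟨hA ρ1 h1' h2', h1', h2'⟩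

end

end Groth.Agent.ResProp.EF.K610
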