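import Groth.Agent.ResProp.K276.Geo

/-!
# Affine smooth charts of quasi-compact algebraic stacks with affine diagonal

`exists_chart_smooth` : an affine smooth surjective chart; `exists_chart` : the chart as an affine object `x₀` with
products, all of whose products with affine objects are smooth.
-/

set_option autoImplicit false
set_option linter.unusedVariables false
set_option linter.style.haveILetI false
set_option backward.isDefEq.respectTransparency false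
set_option backward.isDefEq.respectTransparency.types false

universe w v u

open CategoryTheory CategoryTheory.Limits AlgebraicGeometry Opposite StMod
open K784.PM K784.Geo K741.RP K741 K734.Fib K606.YonSec K734.Rep

namespace Groth.Agent.ResProp.EF.K610

variable {S : Scheme.{u}} {𝒳 : AlgSt.Cat S}

theorem smooth_comp_overMap (h𝒳 : FibCat.IsFibGrpd 𝒳.p) {V : Over S} {v : FibCat.overCat V ⥤ᵇ 𝒳}
    (hv : AlgSt.RepByAlgSpWith (AlgSp.LocP @Smooth) v) {U : Over S} (g : U ⟶ V) (hg : Smooth g.left) :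
    AlgSt.RepByAlgSpWith (AlgSp.LocP @Smooth) (BasedFunctor.comp (AlgSt.overMap g) v) :=
  K742.nice_smooth.comp_rep (K735.Fp.isFibGrpd_overCat U) (K735.Fp.isFibGrpd_overCat V)
    ((K742.nice_smooth.overMap_iff _).2 hg) hv

theorem flat_of_smooth {V : Over S} {v : FibCat.overCat V ⥤ᵇ 𝒳} (h : AlgSt.RepByAlgSpWith (AlgSp.LocP @Smooth) v) :
    AlgSt.RepByAlgSpWith (AlgSp.LocP @Flat) v :=
  K740.SpIso.repByAlgSpWith_imp h (fun F U q hq A B a b g ha hb' w => by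
    have : Smooth g.left := hq a b g ha hb' w
    exact (inferInstance : Flat g.left))

/-- a quasi-compact algebraic stack has an affine smooth surjective chart -/
theorem exists_chart_smooth {K : Precoverage Scheme.{u}} (h𝒳 : AlgSt.IsAlgStack K 𝒳) (hqc : AlgSt.IsQuasiCompact 𝒳) :
    ∃ (U : Over S) (x : FibCat.overCat U ⥤ᵇ 𝒳), IsAffine U.left ∧ AlgSt.RepByAlgSpWith (AlgSp.LocP @Smooth) x ∧
      AlgSt.RepByAlgSpWith AlgSp.IsSurjectiveMor x := by
  obtain ⟨V, v, h1, h2⟩ := h𝒳.atlas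
  have ho := K736.QC.isOpenMap_ofChart h𝒳 h1
  have hs := K736.QC.surjective_ofChart h𝒳 h2
  haveI : CompactSpace (AlgSt.Points 𝒳) := (K736.QC.isQuasiCompact_iff h𝒳).1 hqc
  have key : ∀ w : V.left, ∃ O : V.left.Opens, IsAffineOpen O ∧ w ∈ O := fun w => by
    obtain ⟨O, hO, hw, -⟩ := (Scheme.isBasis_affineOpens V.left).exists_subset_of_mem_open (Set.mem_univ w) isOpen_univ
    obtain ⟨O', h3, h4⟩ := hO
    subst h4
    exact ⟨O', h3, hw⟩
  choose O hO hw using key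
  obtain ⟨t, ht⟩ := isCompact_univ.elim_finite_subcover (fun w : V.left => AlgSt.Points.ofChart v '' (O w : Set ↥V.left))
    (fun w => ho _ (O w).2) (fun q hq => by
      obtain ⟨w, rfl⟩ := hs q
      exact Set.mem_iUnion.2 ⟨w, w, hw w, rfl⟩)
  let g₀ : (∐ fun w : t => ((O w.1 : V.left.Opens) : Scheme.{u})) ⟶ V.left := Sigma.desc fun w : t => (O w.1).ι
  let U : Over S := Over.mk (g₀ ≫ V.hom)
  let g : U ⟶ V := Over.homMk g₀ rfl
  have haff : ∀ w : t, IsAffine ((O w.1 : V.left.Opens) : Scheme.{u}) := fun w => hO w.1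
  have hg : Smooth g.left := IsZariskiLocalAtSource.sigmaDesc (P := @Smooth) fun w => inferInstance
  have h3 := smooth_comp_overMap h𝒳.isStack.1 h1 g hg
  refine ⟨U, BasedFunctor.comp (AlgSt.overMap g) v, ?_, h3, ?_⟩
  · exact inferInstanceAs (IsAffine (∐ fun w : t => ((O w.1 : V.left.Opens) : Scheme.{u})))
  · refine K736.QC.surj_of_surjective_ofChart h𝒳 (K735.Rep.repByAlgSp1_of_with h3) ?_
    intro q
    obtain ⟨w, hwt, s, hs', rfl⟩ := Set.mem_iUnion₂.1 (ht (Set.mem_univ q))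
    refine ⟨(Sigma.ι (fun w : t => ((O w.1 : V.left.Opens) : Scheme.{u})) ⟨w, hwt⟩) ⟨s, hs'⟩, ?_⟩
    rw [K735.PtsSp.ofChart_overMap]
    change AlgSt.Points.ofChart v (g₀ _) = _
    rw [← Scheme.Hom.comp_apply, Sigma.ι_desc]
    rfl

/-- products with an affine smooth chart -/
theorem exists_prod_smooth (h𝒳 : FibCat.IsFibGrpd 𝒳.p) {U : Over S} {x : FibCat.overCat U ⥤ᵇ 𝒳}
    (hx : AlgSt.RepByAlgSpWith (AlgSp.IsAffineMor ⊓ AlgSp.LocP @Smooth) x) (ξ : 𝒳.obj) (hξ : IsAffine (sch 𝒳 ξ)) :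
    ∃ (χ : 𝒳.obj) (a : χ ⟶ ξ) (b : χ ⟶ x.obj (one U)), IsAffine (sch 𝒳 χ) ∧ Smooth (bmap 𝒳 a) ∧
      ∀ (χ' : 𝒳.obj) (a' : χ' ⟶ ξ) (b' : χ' ⟶ x.obj (one U)), ∃! c : χ' ⟶ χ, c ≫ a = a' ∧ c ≫ b = b' := by
  obtain ⟨F, π, R, ⟨hA, hF⟩, hπ⟩ := K906.Span.exists_spanRep_atlas h𝒳 hx ξ
  obtain ⟨W, i, fst, hpb, hW⟩ := hA (Z := 𝒳.p.obj ξ) hξ (𝟙 _)
  have : IsIso fst := hpb.isIso_fst_of_isIso
  obtain ⟨χ, a, b, e, hs⟩ := R.surj (sec fst)
  subst e
  have hs' : R.sec a b = sec fst := by simpa using hs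
  have h1 : K606.YonSec.ofSec (R.sec a b) = fst := by rw [hs', ofSec_sec]
  have h2 : fst ≫ π = (AlgSp.yon S).map (𝒳.p.map a) := by
    rw [← h1, K606.YonSec.ofSec_comp, hπ, ofSec_up]
  have hfr : (AlgSp.LocP (S := S) @Smooth).RespectsIso := K735.Top.locP_respectsIso _
  have h3 : AlgSp.LocP @Smooth ((AlgSp.yon S).map (𝒳.p.map a)) := by
    rw [← h2]
    exact (MorphismProperty.cancel_left_of_respectsIso (AlgSp.LocP @Smooth) fst π).2 hF
  refine ⟨χ, a, b, hW, ?_, fun χ' a' b' => ?_⟩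
  · exact (K742.nice_smooth.yon_iff (𝒳.p.map a)).1 h3
  · obtain ⟨g, hg⟩ := (AlgSp.yon S).map_surjective (K606.YonSec.ofSec (R.sec a' b') ≫ inv fst)
    have h3 : F.obj.obj.map g.op (R.sec a b) = R.sec a' b' := by
      apply K606.YonSec.ofSec_injective
      rw [← map_comp_ofSec, h1, hg, Category.assoc, IsIso.inv_hom_id, Category.comp_id]
    obtain ⟨c, hc, h4, h5⟩ := R.full a b a' b' g h3
    refine ⟨c, ⟨h4, h5⟩, ?_⟩
    rintro c' ⟨h6, h7⟩
    refine K906.Grpd.hom_ext h𝒳 a ?_ (h6.trans h4.symm)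
    apply (AlgSp.yon S).map_injective
    rw [← cancel_mono fst, ← h1, map_comp_ofSec, map_comp_ofSec, R.map, R.map, h6, h7, h4, h5]

/-- the products of `x₀` with affine objects are smooth -/
theorem smooth_π (h𝒳 : FibCat.IsFibGrpd 𝒳.p) {U : Over S} {x : FibCat.overCat U ⥤ᵇ 𝒳}
    (hx : AlgSt.RepByAlgSpWith (AlgSp.IsAffineMor ⊓ AlgSp.LocP @Smooth) x) (hA : IsAffine (sch 𝒳 (x.obj (one U))))
    {x₀ : (Aff 𝒳).obj} (h₀ : x₀ = ⟨x.obj (one U), hA⟩) (D : PD (fa 𝒳) x₀) (z : (Aff 𝒳).obj) :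
    (rg (fa 𝒳) (D.π z)).Smooth := by
  subst h₀
  obtain ⟨χ, a, b, h1, h2, h3⟩ := exists_prod_smooth h𝒳 hx z.obj z.property
  obtain ⟨c, ⟨hc1, hc2⟩, -⟩ := h3 (D.w z).obj (D.π z).hom (D.b z).hom
  let X : (Aff 𝒳).obj := ⟨χ, h1⟩
  let c' : D.w z ⟶ X := ObjectProperty.homMk c
  let a' : X ⟶ z := ObjectProperty.homMk a
  let b' : X ⟶ ⟨x.obj (one U), hA⟩ := ObjectProperty.homMk b
  let l : X ⟶ D.w z := D.lift a' b'
  have ha : l ≫ D.π z = a' := D.lift_π a' b'
  have hb : l ≫ D.b z = b' := D.lift_b a' b'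
  have hca : c' ≫ a' = D.π z := ObjectProperty.hom_ext _ hc1
  have hcb : c' ≫ b' = D.b z := ObjectProperty.hom_ext _ hc2
  have e1 : c' ≫ l = 𝟙 _ := D.ext (by rw [Category.assoc, ha, hca, Category.id_comp])
    (by rw [Category.assoc, hb, hcb, Category.id_comp])
  have e2 : l ≫ c' = 𝟙 _ := ObjectProperty.hom_ext _ ((h3 χ a b).unique
    ⟨congrArg (fun t => t.hom) (show (l ≫ c') ≫ a' = a' by rw [Category.assoc, hca, ha]),
      congrArg (fun t => t.hom) (show (l ≫ c') ≫ b' = b' by rw [Category.assoc, hcb, hb])⟩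
    ⟨Category.id_comp _, Category.id_comp _⟩)
  have hI : IsIso c' := ⟨l, e1, e2⟩
  have h4 : (rg (fa 𝒳) a').Smooth := (HasRingHomProperty.iff_of_isAffine (P := @Smooth) (f := bmap 𝒳 a)).1 h2
  have h5 : Function.Bijective (rg (fa 𝒳) c') := by
    haveI : IsIso ((fa 𝒳).map c'.op) := inferInstance
    exact ConcreteCategory.bijective_of_isIso ((fa 𝒳).map c'.op)
  rw [← hca, rg_comp]
  exact h4.comp (RingHom.Smooth.of_bijective h5)

/-- **(F1, A (4))** an affine smooth chart `x₀` of a quasi-compact algebraic stack with affine diagonal over an affine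
base: the category of affine objects has products with `x₀`, and they are smooth. -/
theorem exists_chart [IsAffine S] {K : Precoverage Scheme.{u}} (h𝒳 : AlgSt.IsAlgStack K 𝒳)
    (hqc : AlgSt.IsQuasiCompact 𝒳) (hΔ : AlgSt.RepByAlgSpWith AlgSp.IsAffineMor (FibCat.diag (FibCat.toSelf 𝒳))) :
    ∃ x₀ : (Aff 𝒳).obj, HasProd x₀.obj ∧ ∀ (D : PD (fa 𝒳) x₀) (z : (Aff 𝒳).obj), (rg (fa 𝒳) (D.π z)).Smooth := by
  have hg : FibCat.IsFibGrpd 𝒳.p := h𝒳.isStack.1
  obtain ⟨U, x, hU, hE, hs⟩ := exists_chart_smooth h𝒳 hqc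
  have e₀ : sch 𝒳 (x.obj (one U)) = U.left := congrArg (fun T : Over S => T.left) (x.w_obj (one U))
  have hA : IsAffine (sch 𝒳 (x.obj (one U))) := by rw [e₀]; exact hU
  haveI : (AlgSp.LocP (S := S) @Smooth).RespectsIso := K735.Top.locP_respectsIso _
  exact ⟨⟨x.obj (one U), hA⟩, K56.RP.hasProd_chart hg hΔ x (flat_of_smooth hE) hs,
    fun D z => smooth_π hg (repByAlgSpWith_inf hg (K56.RP.affine_of_affine hg hΔ hU x) hE) hA rfl D z⟩

end Groth.Agent.ResProp.EF.K610
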