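import Groth.Agent.ResProp.EF.K412.Out
import Groth.Agent.ResProp.EF.K610.Rho

/-!
# Node R1 of G1: the ring level groupoid of a groupoid ring

`grpd h : RGrpd (A⟨0⟩) (A⟨1⟩)` for `h : GR A` : source = vertex `0`, target = vertex `1`, composition through `A⟨2⟩`.
`isGrpd` : it has the characterisation `K412.IsGrpd`.  `r1 : K412.R1`.
-/

set_option autoImplicit false
set_option linter.dupNamespace false

open CategoryTheory CategoryTheory.Limits Opposite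

noncomputable section

namespace Groth.Agent.ResProp.EF.K610.R1

open K784.BC K784.PM K741.RP EF56 Groth.Agent.Grpsch.AffGrpd

universe u

variable {A : NFᵒᵖ ⥤ CommRingCat.{u}}

/-- an edge of `⟨n⟩` -/
abbrev ed {n : ℕ} (i j : Fin (n + 1)) : (⟨n⟩ : NF) ⟶ ⟨1⟩ := (![i, j] : Fin 2 → Fin (n + 1))

/-- a 2-simplex of `⟨n⟩` -/
abbrev td {n : ℕ} (i j l : Fin (n + 1)) : (⟨n⟩ : NF) ⟶ ⟨2⟩ := (![i, j, l] : Fin 3 → Fin (n + 1))

theorem ed_pr {n : ℕ} (i j : Fin (n + 1)) : ed i j ≫ pr ⟨0⟩ = pt ⟨n⟩ i := by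
  funext x; fin_cases x; rfl

theorem ed_lst {n : ℕ} (i j : Fin (n + 1)) : ed i j ≫ lst ⟨0⟩ = pt ⟨n⟩ j := by
  funext x; fin_cases x; rfl

theorem td_01 {n : ℕ} (i j l : Fin (n + 1)) : td i j l ≫ ed (0 : Fin 3) 1 = ed i j := by
  funext x; fin_cases x <;> rfl

theorem td_12 {n : ℕ} (i j l : Fin (n + 1)) : td i j l ≫ ed (1 : Fin 3) 2 = ed j l := by
  funext x; fin_cases x <;> rfl

theorem td_02 {n : ℕ} (i j l : Fin (n + 1)) : td i j l ≫ ed (0 : Fin 3) 2 = ed i l := by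
  funext x; fin_cases x <;> rfl

theorem ed_id : ed (0 : Fin 2) 1 = 𝟙 (⟨1⟩ : NF) := by
  funext x; fin_cases x <;> rfl

theorem ed_deg {n : ℕ} (i : Fin (n + 1)) : ed i i = pt ⟨n⟩ i ≫ ed (0 : Fin 1) 0 := by
  funext x; fin_cases x <;> rfl

theorem rg_comp' {a b c : NF} (φ : a ⟶ b) (ψ : b ⟶ c) : (rg A φ).comp (rg A ψ) = rg A (φ ≫ ψ) :=
  (rg_comp A φ ψ).symm

theorem pr_zero : pr ⟨0⟩ = pt ⟨1⟩ 0 := by
  funext x; fin_cases x; rfl

theorem rg_id' (a : NF) : rg A (𝟙 a) = RingHom.id _ := by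
  change (A.map (𝟙 (op a))).hom = _
  rw [A.map_id]
  rfl

variable (h : GR A)

include h in
/-- `A⟨2⟩` is the pushout of the edges `01` and `12` -/
theorem po2 : IsPO (rg A (lst ⟨0⟩)) (rg A (pr ⟨0⟩)) (rg A (ed (0 : Fin 3) 1)) (rg A (ed (1 : Fin 3) 2)) := by
  have := h.po (lst ⟨0⟩)
  have e1 : pr ⟨1⟩ = ed (0 : Fin 3) 1 := by
    funext x; fin_cases x <;> rfl
  have e2 : wmap (lst ⟨0⟩) = ed (1 : Fin 3) 2 := by
    funext x; fin_cases x <;> rfl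
  have e3 : (wmap (lst ⟨0⟩) : (⟨(⟨0 + 1⟩ : NF).n + 1⟩ : NF) ⟶ ⟨0 + 1⟩) = ed (1 : Fin 3) 2 := e2
  rw [e3] at this
  rw [← e1]
  exact this

variable {h}

section

variable {T : Type u} [CommRing T]

theorem exists_tri (h : GR A) (α β : A.obj (op ⟨1⟩) →+* T) (w : α.comp (rg A (pr ⟨0⟩)) = β.comp (rg A (lst ⟨0⟩))) :
    ∃ χ : A.obj (op ⟨2⟩) →+* T, χ.comp (rg A (ed (0 : Fin 3) 1)) = β ∧ χ.comp (rg A (ed (1 : Fin 3) 2)) = α :=
  po_desc (po2 h) β α w.symm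

theorem tri_ext (h : GR A) {χ χ' : A.obj (op ⟨2⟩) →+* T}
    (h1 : χ.comp (rg A (ed (0 : Fin 3) 1)) = χ'.comp (rg A (ed (0 : Fin 3) 1)))
    (h2 : χ.comp (rg A (ed (1 : Fin 3) 2)) = χ'.comp (rg A (ed (1 : Fin 3) 2))) : χ = χ' :=
  po_ext (po2 h) h1 h2

/-- composition of arrows -/
def cmp (h : GR A) (α β : A.obj (op ⟨1⟩) →+* T) (w : α.comp (rg A (pr ⟨0⟩)) = β.comp (rg A (lst ⟨0⟩))) :
    A.obj (op ⟨1⟩) →+* T :=
  (exists_tri h α β w).choose.comp (rg A (ed (0 : Fin 3) 2))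

theorem cmp_eq (h : GR A) {α β : A.obj (op ⟨1⟩) →+* T} (w : α.comp (rg A (pr ⟨0⟩)) = β.comp (rg A (lst ⟨0⟩)))
    (χ : A.obj (op ⟨2⟩) →+* T) (h1 : χ.comp (rg A (ed (0 : Fin 3) 1)) = β)
    (h2 : χ.comp (rg A (ed (1 : Fin 3) 2)) = α) : cmp h α β w = χ.comp (rg A (ed (0 : Fin 3) 2)) := by
  have e : (exists_tri h α β w).choose = χ :=
    tri_ext h ((exists_tri h α β w).choose_spec.1.trans h1.symm) ((exists_tri h α β w).choose_spec.2.trans h2.symm)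
  rw [cmp, e]

/-- a 2-simplex pulled back from `χ : A⟨n⟩ → T` -/
theorem cmp_of (h : GR A) {n : ℕ} (χ : A.obj (op ⟨n⟩) →+* T) (i j l : Fin (n + 1)) {α β : A.obj (op ⟨1⟩) →+* T}
    (w : α.comp (rg A (pr ⟨0⟩)) = β.comp (rg A (lst ⟨0⟩)))
    (h1 : χ.comp (rg A (ed i j)) = β) (h2 : χ.comp (rg A (ed j l)) = α) :
    cmp h α β w = χ.comp (rg A (ed i l)) := by
  rw [cmp_eq h w (χ.comp (rg A (td i j l))), RingHom.comp_assoc, rg_comp', td_02]
  · rw [RingHom.comp_assoc, rg_comp', td_01, h1]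
  · rw [RingHom.comp_assoc, rg_comp', td_12, h2]

end

/-- **the ring level groupoid of a groupoid ring** -/
def grpd (h : GR A) : RGrpd (A.obj (op ⟨0⟩)) (A.obj (op ⟨1⟩)) where
  s := rg A (pr ⟨0⟩)
  t := rg A (lst ⟨0⟩)
  e := rg A (ed (0 : Fin 1) 0)
  i := rg A (ed (1 : Fin 2) 0)
  comp α β w := cmp h α β w
  comp_s α β w := by
    obtain ⟨χ, h1, h2⟩ := exists_tri h α β w
    rw [cmp_eq h w χ h1 h2, RingHom.comp_assoc, rg_comp', ed_pr, ← h1, RingHom.comp_assoc, rg_comp', ed_pr]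
  comp_t α β w := by
    obtain ⟨χ, h1, h2⟩ := exists_tri h α β w
    rw [cmp_eq h w χ h1 h2, RingHom.comp_assoc, rg_comp', ed_lst]
    conv_rhs => rw [← h2]
    rw [RingHom.comp_assoc, rg_comp', ed_lst]
  comp_nat f α β w := by
    obtain ⟨χ, h1, h2⟩ := exists_tri h α β w
    rw [cmp_eq h w χ h1 h2, cmp_eq h _ (f.comp χ) (by rw [RingHom.comp_assoc, h1]) (by rw [RingHom.comp_assoc, h2])]
    rfl
  assoc {T} _ α β γ h₁ h₂ := by
    obtain ⟨χ, k1, k2⟩ := exists_tri h β γ h₂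
    have po3 : IsPO (rg A (pt ⟨2⟩ 2)) (rg A (pr ⟨0⟩)) (rg A (td (0 : Fin 4) 1 2)) (rg A (ed (2 : Fin 4) 3)) := by
      have := h.po (pt ⟨2⟩ 2)
      have e1 : pr ⟨2⟩ = td (0 : Fin 4) 1 2 := by
        funext x; fin_cases x <;> rfl
      have e3 : (wmap (pt ⟨2⟩ 2) : (⟨(⟨2⟩ : NF).n + 1⟩ : NF) ⟶ ⟨0 + 1⟩) = ed (2 : Fin 4) 3 := by
        funext x; fin_cases x <;> rfl
      rw [e3] at this
      rw [← e1]
      exact this
    obtain ⟨ω, o1, o2⟩ := po_desc po3 χ α (by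
      rw [h₁, ← k2, RingHom.comp_assoc, rg_comp', ed_lst])
    have w01 : ω.comp (rg A (ed (0 : Fin 4) 1)) = γ := by
      rw [← k1, ← o1, RingHom.comp_assoc, rg_comp', td_01]
    have w12 : ω.comp (rg A (ed (1 : Fin 4) 2)) = β := by
      rw [← k2, ← o1, RingHom.comp_assoc, rg_comp', td_12]
    have w23 : ω.comp (rg A (ed (2 : Fin 4) 3)) = α := o2
    have a1 : cmp h α β h₁ = ω.comp (rg A (ed (1 : Fin 4) 3)) := cmp_of h ω 1 2 3 h₁ w12 w23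
    have a2 : cmp h β γ h₂ = ω.comp (rg A (ed (0 : Fin 4) 2)) := cmp_of h ω 0 1 2 h₂ w01 w12
    exact (cmp_of h ω 0 1 3 _ w01 a1.symm).trans (cmp_of h ω 0 2 3 _ a2.symm w23).symm
  e_s := by
    rw [rg_comp', ed_pr, ← rg_id']
    congr 1
    funext x; exact Subsingleton.elim (α := Fin 1) _ _
  e_t := by
    rw [rg_comp', ed_lst, ← rg_id']
    congr 1
    funext x; exact Subsingleton.elim (α := Fin 1) _ _
  comp_e α := by
    rw [cmp_of h α 0 0 1 _ (by rw [RingHom.comp_assoc, rg_comp', ed_deg, pr_zero])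
      (by rw [ed_id, rg_id', RingHom.comp_id]), ed_id, rg_id', RingHom.comp_id]
  e_comp α := by
    rw [cmp_of h α 0 1 1 _ (by rw [ed_id, rg_id', RingHom.comp_id])
      (by rw [RingHom.comp_assoc, rg_comp', ed_deg]; rfl), ed_id, rg_id', RingHom.comp_id]
  i_s := by
    rw [rg_comp', ed_pr]
    rfl
  i_t := by
    rw [rg_comp', ed_lst, pr_zero]
  comp_i α := by
    rw [cmp_of h α 1 0 1 _ rfl (by rw [ed_id, rg_id', RingHom.comp_id]), RingHom.comp_assoc, rg_comp', ed_deg]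
    rfl
  i_comp α := by
    rw [cmp_of h α 0 1 0 _ (by rw [ed_id, rg_id', RingHom.comp_id]) rfl, RingHom.comp_assoc, rg_comp', ed_deg,
      pr_zero]

/-- the characterisation used by G1 -/
theorem isGrpd (h : GR A) : K412.IsGrpd A (grpd h) where
  s := rfl
  t := rfl
  comp χ w := cmp_of h χ 0 1 2 w rfl rfl

/-- **Node R1** -/
theorem r1 : K412.R1.{u} := fun _ h => ⟨grpd h, isGrpd h⟩

end Groth.Agent.ResProp.EF.K610.R1
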